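import Cfsg.Agent.Lib.Sporadic.U62Lift.Form

/-!
An involution of SU₆(2) is a product of commuting transvections; lifts of transvections to a double cover.
-/

set_option autoImplicit false

namespace CfsgLib.Sporadic.U62Lift

open Matrix

variable {F : Type*} [Field F] [Fintype F] (hF : Fintype.card F = 4)

include hF

theorem add_self_vec (v : V F) : v + v = 0 := by
  funext i
  show v i + v i = 0
  linear_combination v i * two_zero hF

/-- The image of `g + 1`. -/
theorem image_isotropic {g : ↥(Cfsg.SU 6 F 2)} (hg : g * g = 1) (x y : V F) :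
    hf (mat g *ᵥ x + x) (mat g *ᵥ y + y) = 0 := by
  have h : hf (mat g *ᵥ x) y = hf x (mat g *ᵥ y) := by
    rw [← hf_mat g x (mat g *ᵥ y), ← mat_mul, hg, mat_one]
  rw [hf_add_left, hf_add_right hF, hf_add_right hF, hf_mat, h]
  linear_combination (hf x y + hf x (mat g *ᵥ y)) * two_zero hF

theorem exists_nonzero {g : ↥(Cfsg.SU 6 F 2)} (hg : g * g = 1) (hne : g ≠ 1) :
    ∃ u, hf (mat g *ᵥ u + u) u = 1 := by
  let H : V F → V F → F := fun x y => hf (mat g *ᵥ x + x) y
  have hsa : ∀ x y, H y x = H x y ^ 2 := fun x y => by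
    have h : hf (mat g *ᵥ x) y = hf x (mat g *ᵥ y) := by
      rw [← hf_mat g x (mat g *ᵥ y), ← mat_mul, hg, mat_one]
    simp only [H]
    have h' : hf y (mat g *ᵥ x) = hf (mat g *ᵥ y) x := by
      rw [← hf_mat g (mat g *ᵥ y) x, ← mat_mul, hg, mat_one]
    rw [← hf_symm hF, hf_add_right hF, hf_add_left, h']
  by_contra hc
  push Not at hc
  have h0 : ∀ x, H x x = 0 := fun x =>
    (sq_eq_self_cases (hsa x x).symm).resolve_right (hc x)
  obtain ⟨ω, hω⟩ := exists_omega hF
  have hall : ∀ x y, H x y = 0 := fun x y => by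
    have e : ∀ c : F, c ^ 2 * H x y + c * H x y ^ 2 = 0 := fun c => by
      have := h0 (x + c • y)
      simp only [H] at this h0
      have hadd : mat g *ᵥ (x + c • y) + (x + c • y) = (mat g *ᵥ x + x) + c • (mat g *ᵥ y + y) := by
        rw [mulVec_add, mulVec_smul, smul_add]; abel
      rw [hadd, hf_add_left, hf_add_right hF, hf_add_right hF, hf_smul_left, hf_smul_left, hf_smul_right,
        hf_smul_right, h0, h0] at this
      rw [← hsa x y]
      simp only [H]
      linear_combination this
    have e1 := e 1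
    have e2 := e ω
    linear_combination (-1 : F) * e2 + (-ω) * e1 + H x y * hω + ω * H x y ^ 2 * two_zero hF
  refine hne (mat_ext fun x => ?_)
  have h := eq_zero_of_hf (v := mat g *ᵥ x + x) fun y => by
    have := hall x y
    exact hf_eq_zero_symm hF this
  rw [mat_one, ← add_zero x]
  nth_rewrite 2 [← h]
  rw [add_zero, ← add_assoc, add_comm x, add_assoc, add_self_vec hF, add_zero]

theorem decompose : ∀ g : ↥(Cfsg.SU 6 F 2), g * g = 1 →
    ∃ l : List (V F), (∀ v ∈ l, hf v v = 0 ∧ ∃ x, mat g *ᵥ x + x = v) ∧ g = (l.map (tr hF)).prod := by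
  classical
  intro g
  induction hn : Fintype.card {x : V F // mat g *ᵥ x ≠ x} using Nat.strong_induction_on generalizing g with
  | _ n ih =>
    intro hg
    by_cases hne : g = 1
    · exact ⟨[], by simp, by simp [hne]⟩
    obtain ⟨u, hu⟩ := exists_nonzero hF hg hne
    set w := mat g *ᵥ u + u with hw
    have hww : hf w w = 0 := image_isotropic hF hg u u
    have hgw : mat g *ᵥ w = w := by
      rw [hw, mulVec_add, ← mat_mul, hg, mat_one, add_comm]
    have hap : ∀ x, mat (tr hF w * g) *ᵥ x = mat g *ᵥ x + hf x w • w := fun x => by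
      rw [mat_mul, mat_tr hF hww]
      congr 2
      rw [← hf_mat g x w, hgw]
    have hc : tr hF w * g = g * tr hF w := by
      refine mat_ext fun x => ?_
      rw [hap, mat_mul, mat_tr hF hww, mulVec_add, mulVec_smul, hgw]
    have hsq : tr hF w * g * (tr hF w * g) = 1 := by
      rw [show tr hF w * g * (tr hF w * g) = tr hF w * (g * tr hF w) * g by group, ← hc, ← mul_assoc,
        tr_sq hF hww, one_mul, hg]
    have hu0 : hf u w = 1 := by rw [hf_symm hF w u, hu, one_pow]
    have hlt : Fintype.card {x : V F // mat (tr hF w * g) *ᵥ x ≠ x} < n := by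
      rw [← hn]
      refine Fintype.card_lt_of_injective_of_notMem
        (fun x => ⟨x.1, fun e => x.2 ?_⟩) (fun a b e => Subtype.ext (by simpa using congrArg Subtype.val e)) (b := ⟨u, ?_⟩) ?_
      · have hxw : hf x.1 w = 0 := by
          have h := hf_mat g x.1 u
          rw [e] at h
          show hf x.1 (mat g *ᵥ u + u) = 0
          rw [hf_add_right hF, h]
          linear_combination hf x.1 u * two_zero hF
        rw [hap, e, hxw, zero_smul, add_zero]
      · intro e
        rw [hw, e, add_self_vec hF] at hu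
        simp [hf, Cfsg.hermForm] at hu
      · rintro ⟨x, hx⟩
        have hxu : x.1 = u := congrArg Subtype.val hx
        refine x.2 ?_
        rw [hap, hxu, hu0, one_smul, hw, ← add_assoc, add_self_vec hF, zero_add]
    obtain ⟨l, hl, e⟩ := ih _ hlt (tr hF w * g) rfl hsq
    refine ⟨w :: l, fun v hv => ?_, ?_⟩
    · rcases List.mem_cons.mp hv with rfl | hv
      · exact ⟨hww, u, rfl⟩
      · obtain ⟨h1, x, hx⟩ := hl v hv
        refine ⟨h1, x + hf x w • u, ?_⟩
        rw [← hx, hap, mulVec_add, mulVec_smul, hw, smul_add]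
        abel
    · rw [List.map_cons, List.prod_cons, ← e, ← mul_assoc, tr_sq hF hww, one_mul]

/-- The image in the projective group. -/
noncomputable def tq (v : V F) : Cfsg.PSU 6 F 2 := QuotientGroup.mk (tr hF v)

/-- An involution of the projective group is a product of commuting transvections. -/
theorem involution_tq {x : Cfsg.PSU 6 F 2} (hx : x * x = 1) :
    ∃ l : List (V F), (∀ v ∈ l, hf v v = 0) ∧ (∀ v ∈ l, ∀ w ∈ l, hf v w = 0) ∧ x = (l.map (tq hF)).prod := by
  obtain ⟨g, rfl⟩ := QuotientGroup.mk_surjective x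
  rw [← QuotientGroup.mk_mul, QuotientGroup.eq_one_iff] at hx
  set z := g * g with hz
  have hscal : ∀ v : V F, hf v v = 0 → mat (z * z * z) *ᵥ v = v := by
    intro v hv
    by_cases hv0 : v = 0
    · rw [hv0, mulVec_zero]
    have e : tr hF (mat z *ᵥ v) = tr hF v := by
      rw [← tr_conj hF z hv, mul_inv_eq_iff_eq_mul, ← Subgroup.mem_center_iff.mp hx]
    obtain ⟨x, hxv⟩ : ∃ x, hf x v ≠ 0 := by
      by_contra hc
      push Not at hc
      exact hv0 (eq_zero_of_hf hc)
    have hzv : hf (mat z *ᵥ v) (mat z *ᵥ v) = 0 := by rw [hf_mat, hv]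
    have h := congrArg (fun g => mat g *ᵥ x) e
    simp only [mat_tr hF hzv, mat_tr hF hv, add_right_inj] at h
    obtain ⟨a, ha⟩ : ∃ a : F, mat z *ᵥ v = a • v := by
      by_cases h0 : hf x (mat z *ᵥ v) = 0
      · rw [h0, zero_smul] at h
        exact absurd ((smul_eq_zero.mp h.symm).resolve_left hxv) hv0
      · exact ⟨(hf x (mat z *ᵥ v))⁻¹ * hf x v, by rw [mul_smul, ← h, inv_smul_smul₀ h0]⟩
    have ha0 : a ≠ 0 := by
      rintro rfl
      rw [zero_smul] at ha
      have := congrArg (fun w => mat z⁻¹ *ᵥ w) ha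
      simp only [← mat_mul, inv_mul_cancel, mat_one, mulVec_zero] at this
      exact hv0 this
    rw [mat_mul, mat_mul, ha, mulVec_smul, ha, mulVec_smul, mulVec_smul, ha, smul_smul, smul_smul]
    have h3 : a * (a * a) = 1 := by
      have h : a * (a * (a * a) - 1) = 0 := by linear_combination pow_four hF a
      exact sub_eq_zero.mp ((mul_eq_zero.mp h).resolve_left ha0)
    rw [mul_assoc, h3, one_smul]
  have hz3 : z * z * z = 1 := by
    obtain ⟨ω, hω⟩ := exists_omega hF
    refine mat_ext fun x => ?_
    rw [mat_one]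
    have hb : ∀ i : Fin 6, mat (z * z * z) *ᵥ (Pi.single i (1 : F)) = Pi.single i 1 := by
      intro i
      obtain ⟨j, hj⟩ : ∃ j : Fin 6, j ≠ i := exists_ne i
      have hii : ∀ k : Fin 6, hf (Pi.single k (1 : F)) (Pi.single k 1) = 1 := fun k => by
        rw [hf_single, Pi.single_eq_same, one_pow]
      have hij : hf (Pi.single i (1 : F)) (Pi.single j 1) = 0 := by
        rw [hf_single, Pi.single_eq_of_ne hj.symm, zero_pow two_ne_zero]
      have hc : ∀ c : F, c ^ 3 = 1 →
          hf (Pi.single i (1 : F) + c • Pi.single j 1) (Pi.single i (1 : F) + c • Pi.single j 1) = 0 := fun c hc => by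
        rw [hf_add_left, hf_add_right hF, hf_add_right hF, hf_smul_left, hf_smul_left, hf_smul_right, hf_smul_right,
          hii, hii, hij, hf_eq_zero_symm hF hij]
        linear_combination hc + two_zero hF
      have e1 := hscal _ (hc 1 (one_pow 3))
      have e2 := hscal _ (hc ω (by linear_combination (ω - 1) * hω))
      rw [mulVec_add, mulVec_smul] at e1 e2
      funext k
      have f1 := congrFun e1 k
      have f2 := congrFun e2 k
      simp only [Pi.add_apply, Pi.smul_apply, smul_eq_mul, one_mul] at f1 f2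
      have h : (ω + 1) * ((mat (z * z * z) *ᵥ Pi.single i (1 : F)) k - (Pi.single i (1 : F) : V F) k) = 0 := by
        linear_combination ω * f1 + f2 +
          (-((mat (z * z * z) *ᵥ Pi.single j (1 : F)) k - (Pi.single j (1 : F) : V F) k) * ω) * two_zero hF
      refine sub_eq_zero.mp ((mul_eq_zero.mp h).resolve_left fun h1 => ?_)
      exact one_ne_zero (α := F) (by linear_combination hω - ω * h1)
    conv_lhs => rw [pi_eq_sum_univ' x, mulVec_sum]
    conv_rhs => rw [pi_eq_sum_univ' x]
    exact Finset.sum_congr rfl fun i _ => by rw [mulVec_smul, hb]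
  have hg : g * g * g * (g * g * g) = 1 := by rw [← hz3, hz]; group
  obtain ⟨l, hl, e⟩ := decompose hF _ hg
  refine ⟨l, fun v hv => (hl v hv).1, fun v hv w hw => ?_, ?_⟩
  · obtain ⟨a, ha⟩ := (hl v hv).2
    obtain ⟨b, hb⟩ := (hl w hw).2
    rw [← ha, ← hb]
    exact image_isotropic hF hg a b
  · have h2 : (QuotientGroup.mk (g * g) : Cfsg.PSU 6 F 2) = 1 := (QuotientGroup.eq_one_iff _).mpr hx
    calc (QuotientGroup.mk g : Cfsg.PSU 6 F 2) = QuotientGroup.mk (g * g * g) := by
          rw [QuotientGroup.mk_mul _ (g * g) g, h2, one_mul]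
      _ = _ := by rw [e, ← QuotientGroup.mk'_apply, map_list_prod, List.map_map]; rfl

end CfsgLib.Sporadic.U62Lift
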