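import Cfsg.Prelude.Def_Classical
import Mathlib

/-!
Transvections of SU₆(2): orthogonal pairs, relations on isotropic lines, involutions.
-/

set_option autoImplicit false

namespace CfsgLib.Sporadic.U62Lift

open Matrix

variable {F : Type*} [Field F] [Fintype F] (hF : Fintype.card F = 4)

/-- The space. -/
abbrev V (F : Type*) := Fin 6 → F

/-- The form. -/
abbrev hf {F : Type*} [Field F] (u v : V F) : F := Cfsg.hermForm 6 F 2 u v

include hF

theorem pow_four (a : F) : a ^ 4 = a := hF ▸ FiniteField.pow_card a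

theorem two_zero : (2 : F) = 0 := by
  have h : ((4 : ℕ) : F) = 0 := by rw [← hF, Nat.cast_card_eq_zero]
  rw [show ((4 : ℕ) : F) = 2 * 2 by norm_num] at h
  exact mul_self_eq_zero.mp h

theorem sq_add (a b : F) : (a + b) ^ 2 = a ^ 2 + b ^ 2 := by linear_combination a * b * two_zero hF

theorem exists_omega : ∃ w : F, w ^ 2 + w + 1 = 0 := by
  classical
  obtain ⟨w, -, hw⟩ := Finset.exists_mem_notMem_of_card_lt_card (s := ({0, 1} : Finset F))
    (t := (Finset.univ : Finset F)) (by rw [Finset.card_univ, hF]; exact lt_of_le_of_lt Finset.card_le_two (by norm_num))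
  simp only [Finset.mem_insert, Finset.mem_singleton, not_or] at hw
  refine ⟨w, ?_⟩
  have h : w * ((w - 1) * (w ^ 2 + w + 1)) = 0 := by linear_combination pow_four hF w
  rcases mul_eq_zero.mp h with h | h
  · exact absurd h hw.1
  · exact (mul_eq_zero.mp h).resolve_left (sub_ne_zero.mpr hw.2)

omit [Fintype F] hF in
theorem sq_eq_self_cases {a : F} (h : a ^ 2 = a) : a = 0 ∨ a = 1 := by
  have : a * (a - 1) = 0 := by linear_combination h
  rcases mul_eq_zero.mp this with h | h
  exacts [Or.inl h, Or.inr (sub_eq_zero.mp h)]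

omit [Fintype F] hF in
theorem hf_add_left (u v w : V F) : hf (u + v) w = hf u w + hf v w := by
  simp only [hf, Cfsg.hermForm, Pi.add_apply, add_mul, Finset.sum_add_distrib]

omit [Fintype F] hF in
theorem hf_smul_left (a : F) (u w : V F) : hf (a • u) w = a * hf u w := by
  simp only [hf, Cfsg.hermForm, Pi.smul_apply, smul_eq_mul, Finset.mul_sum, mul_assoc]

theorem hf_add_right (u v w : V F) : hf u (v + w) = hf u v + hf u w := by
  simp only [hf, Cfsg.hermForm, Pi.add_apply, sq_add hF, mul_add, Finset.sum_add_distrib]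

omit [Fintype F] hF in
theorem hf_smul_right (a : F) (u w : V F) : hf u (a • w) = a ^ 2 * hf u w := by
  simp only [hf, Cfsg.hermForm, Pi.smul_apply, smul_eq_mul, Finset.mul_sum, mul_pow, mul_left_comm]

theorem hf_symm (u v : V F) : hf v u = hf u v ^ 2 := by
  have := CharTwo.of_one_ne_zero_of_two_eq_zero (R := F) one_ne_zero (two_zero hF)
  simp only [hf, Cfsg.hermForm, CharTwo.sum_sq]
  refine Finset.sum_congr rfl fun i _ => ?_
  rw [mul_pow, ← pow_mul, pow_four hF, mul_comm]

theorem hf_eq_zero_symm {u v : V F} (h : hf u v = 0) : hf v u = 0 := by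
  rw [hf_symm hF u v, h, zero_pow two_ne_zero]

omit [Fintype F] hF in
theorem hf_single (i : Fin 6) (v : V F) : hf (Pi.single i 1) v = v i ^ 2 := by
  simp [hf, Cfsg.hermForm, Pi.single_apply]

omit [Fintype F] hF in
theorem eq_zero_of_hf {v : V F} (h : ∀ x, hf x v = 0) : v = 0 :=
  funext fun i => pow_eq_zero_iff two_ne_zero |>.mp ((hf_single i v).symm.trans (h _))

omit hF [Fintype F] in
/-- The rank one matrix of a vector. -/
def rankOne (v : V F) : Matrix (Fin 6) (Fin 6) F := vecMulVec v fun j => v j ^ 2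

omit hF [Fintype F] in
theorem rankOne_mulVec (v x : V F) : rankOne v *ᵥ x = hf x v • v := by
  funext i
  simp only [rankOne, mulVec, dotProduct, vecMulVec_apply, Pi.smul_apply, smul_eq_mul, hf, Cfsg.hermForm,
    Finset.sum_mul]
  exact Finset.sum_congr rfl fun j _ => by ring

omit hF [Fintype F] in
theorem rankOne_mul {v w : V F} (h : hf w v = 0) : rankOne v * rankOne w = 0 := by
  refine Matrix.toLin'.injective (LinearMap.ext fun x => ?_)
  rw [Matrix.toLin'_apply, ← mulVec_mulVec, rankOne_mulVec, rankOne_mulVec, hf_smul_left, h, mul_zero, zero_smul]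
  simp

theorem add_self_mat (M : Matrix (Fin 6) (Fin 6) F) : M + M = 0 := by
  ext i j
  show M i j + M i j = 0
  linear_combination M i j * two_zero hF

theorem tv_sq {v : V F} (hv : hf v v = 0) : (1 + rankOne v) * (1 + rankOne v) = 1 := by
  rw [mul_add, add_mul, add_mul, one_mul, mul_one, one_mul, rankOne_mul hv, add_zero, add_assoc, add_self_mat hF,
    add_zero]

theorem tv_mulVec (v x : V F) : (1 + rankOne v) *ᵥ x = x + hf x v • v := by
  rw [add_mulVec, one_mulVec, rankOne_mulVec]

theorem tv_preserve {v : V F} (hv : hf v v = 0) (x y : V F) :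
    hf ((1 + rankOne v) *ᵥ x) ((1 + rankOne v) *ᵥ y) = hf x y := by
  rw [tv_mulVec hF, tv_mulVec hF, hf_add_left, hf_add_right hF, hf_add_right hF, hf_smul_left, hf_smul_left,
    hf_smul_right, hf_smul_right, hv, hf_symm hF y v]
  linear_combination hf x v * hf y v ^ 2 * two_zero hF

theorem tv_det {v : V F} (hv : hf v v = 0) : (1 + rankOne v).det = 1 := by
  have h := congrArg Matrix.det (tv_sq hF hv)
  rw [det_mul, det_one] at h
  rcases mul_self_eq_one_iff.mp h with h | h
  · exact h
  · rw [h]; linear_combination -two_zero hF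

/-- The transvection of an isotropic vector. -/
noncomputable def tr (v : V F) : ↥(Cfsg.SU 6 F 2) :=
  haveI := Classical.propDecidable (hf v v = 0)
  if hv : hf v v = 0 then ⟨⟨1 + rankOne v, tv_det hF hv⟩, tv_preserve hF hv⟩ else 1

omit [Fintype F] hF in
/-- The matrix of an element. -/
abbrev mat (g : ↥(Cfsg.SU 6 F 2)) : Matrix (Fin 6) (Fin 6) F :=
  (g : Matrix.SpecialLinearGroup (Fin 6) F).1

omit [Fintype F] hF in
theorem mat_ext {g g' : ↥(Cfsg.SU 6 F 2)} (h : ∀ x, mat g *ᵥ x = mat g' *ᵥ x) : g = g' :=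
  Subtype.ext (Subtype.ext (Matrix.toLin'.injective (LinearMap.ext h)))

omit [Fintype F] hF in
theorem mat_mul (g g' : ↥(Cfsg.SU 6 F 2)) (x : V F) : mat (g * g') *ᵥ x = mat g *ᵥ (mat g' *ᵥ x) :=
  (mulVec_mulVec x _ _).symm

omit [Fintype F] hF in
theorem mat_one (x : V F) : mat (1 : ↥(Cfsg.SU 6 F 2)) *ᵥ x = x := one_mulVec x

omit [Fintype F] hF in
theorem hf_mat (g : ↥(Cfsg.SU 6 F 2)) (x y : V F) : hf (mat g *ᵥ x) (mat g *ᵥ y) = hf x y := g.2 x y

theorem mat_tr {v : V F} (hv : hf v v = 0) (x : V F) : mat (tr hF v) *ᵥ x = x + hf x v • v := by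
  rw [← tv_mulVec hF, tr, dif_pos hv]

theorem tr_smul {v : V F} {a : F} (ha : a ≠ 0) (hv : hf v v = 0) : tr hF (a • v) = tr hF v := by
  have hav : hf (a • v) (a • v) = 0 := by rw [hf_smul_left, hf_smul_right, hv, mul_zero, mul_zero]
  refine mat_ext fun x => ?_
  rw [mat_tr hF hav, mat_tr hF hv, hf_smul_right, smul_smul]
  congr 2
  have h3 : a ^ 3 = 1 := by
    have h : a * (a ^ 3 - 1) = 0 := by linear_combination pow_four hF a
    exact sub_eq_zero.mp ((mul_eq_zero.mp h).resolve_left ha)
  linear_combination hf x v * h3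

theorem tr_sq {v : V F} (hv : hf v v = 0) : tr hF v * tr hF v = 1 := by
  refine mat_ext fun x => ?_
  rw [mat_mul, mat_tr hF hv, mat_tr hF hv, mat_one, hf_add_left, hf_smul_left, hv, mul_zero, add_zero,
    add_assoc, ← add_smul, show hf x v + hf x v = 0 by linear_combination hf x v * two_zero hF, zero_smul, add_zero]

theorem tr_comm {v w : V F} (hv : hf v v = 0) (hw : hf w w = 0) (h : hf v w = 0) :
    Commute (tr hF v) (tr hF w) := by
  refine mat_ext fun x => ?_
  rw [mat_mul, mat_mul, mat_tr hF hv, mat_tr hF hw, mat_tr hF hw, mat_tr hF hv, hf_add_left, hf_add_left,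
    hf_smul_left, hf_smul_left, h, hf_eq_zero_symm hF h, mul_zero, mul_zero, add_zero, add_zero]
  abel

theorem tr_conj (g : ↥(Cfsg.SU 6 F 2)) {v : V F} (hv : hf v v = 0) :
    g * tr hF v * g⁻¹ = tr hF (mat g *ᵥ v) := by
  have hgv : hf (mat g *ᵥ v) (mat g *ᵥ v) = 0 := by rw [hf_mat, hv]
  rw [mul_inv_eq_iff_eq_mul]
  refine mat_ext fun x => ?_
  rw [mat_mul, mat_mul, mat_tr hF hv, mat_tr hF hgv, hf_mat, mulVec_add, mulVec_smul]

/-- Two points with form value one are swapped by a transvection fixing their common orthogonal. -/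
theorem swap_pair {a b w : V F} (ha : hf a a = 0) (hb : hf b b = 0) (hab : hf a b = 1) (hw : hf w w = 0)
    (hwa : hf w a = 0) (hwb : hf w b = 0) :
    tr hF (a + b) * tr hF a * (tr hF (a + b))⁻¹ = tr hF b ∧
      tr hF (a + b) * tr hF w * (tr hF (a + b))⁻¹ = tr hF w := by
  have hba : hf b a = 1 := by rw [hf_symm hF a b, hab, one_pow]
  have hu : hf (a + b) (a + b) = 0 := by
    rw [hf_add_left, hf_add_right hF, hf_add_right hF, ha, hb, hab, hba]
    linear_combination two_zero hF
  constructor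
  · rw [tr_conj hF _ ha, mat_tr hF hu, hf_add_right hF, ha, hab, zero_add, one_smul, ← add_assoc]
    congr 1
    funext i
    show a i + a i + b i = b i
    linear_combination a i * two_zero hF
  · rw [tr_conj hF _ hw, mat_tr hF hu, hf_add_right hF, hwa, hwb, add_zero, zero_smul, add_zero]

omit hF [Fintype F] in
/-- The span of two vectors is small. -/
theorem finrank_span_le (a b : V F) : Module.finrank F (Submodule.span F ({a, b} : Set (V F))) ≤ 2 := by
  classical
  have h := finrank_span_finset_le_card (R := F) ({a, b} : Finset (V F))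
  rw [Finset.coe_insert, Finset.coe_singleton] at h
  exact le_trans h Finset.card_le_two

omit hF [Fintype F] in
theorem exists_perp (a b c : V F) (S : Submodule F (V F)) (hS : Module.finrank F S ≤ 2) :
    ∃ x, x ∉ S ∧ hf x a = 0 ∧ hf x b = 0 ∧ hf x c = 0 := by
  let L : V F →ₗ[F] (Fin 3 → F) :=
    { toFun := fun x => ![hf x a, hf x b, hf x c]
      map_add' := fun x y => by funext i; fin_cases i <;> simp [hf_add_left]
      map_smul' := fun r x => by funext i; fin_cases i <;> simp [hf_smul_left] }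
  have h1 := L.finrank_range_add_finrank_ker
  have h2 : Module.finrank F (LinearMap.range L) ≤ 3 :=
    le_trans (Submodule.finrank_le _) (le_of_eq (Module.finrank_fin_fun F))
  rw [Module.finrank_fin_fun] at h1
  obtain ⟨x, hx, hxS⟩ : ∃ x ∈ LinearMap.ker L, x ∉ S := by
    by_contra hc
    push_neg at hc
    have := Submodule.finrank_mono (show LinearMap.ker L ≤ S from hc)
    omega
  rw [LinearMap.mem_ker] at hx
  exact ⟨x, hxS, congrFun hx 0, congrFun hx 1, congrFun hx 2⟩

/-- An isotropic partner on an isotropic line avoiding a point. -/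
theorem exists_third {w v : V F} (hw : hf w w = 0) (hv : hf v v = 0) (hwv : hf w v = 0) :
    ∃ u, hf u u = 0 ∧ hf u w = 0 ∧ hf u v = 0 ∧ u ∉ Submodule.span F ({w, v} : Set (V F)) := by
  set S := Submodule.span F ({w, v} : Set (V F)) with hS
  have hS2 := finrank_span_le w v
  obtain ⟨x, hxS, hxw, hxv, -⟩ := exists_perp w v v S hS2
  have one_of : ∀ z : V F, hf z z ≠ 0 → hf z z = 1 := fun z hz =>
    (sq_eq_self_cases (hf_symm hF z z).symm).resolve_left hz
  by_cases hx : hf x x = 0
  · exact ⟨x, hx, hxw, hxv, hxS⟩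
  obtain ⟨y, hyS, hyw, hyv, hyx⟩ := exists_perp w v x S hS2
  by_cases hy : hf y y = 0
  · exact ⟨y, hy, hyw, hyv, hyS⟩
  refine ⟨x + y, ?_, by rw [hf_add_left, hxw, hyw, add_zero], by rw [hf_add_left, hxv, hyv, add_zero], fun h => ?_⟩
  · rw [hf_add_left, hf_add_right hF, hf_add_right hF, one_of x hx, one_of y hy, hyx,
      hf_eq_zero_symm hF hyx]
    linear_combination two_zero hF
  · obtain ⟨r, s, e⟩ := Submodule.mem_span_pair.mp h
    have h0 : hf (x + y) x = 0 := by
      rw [← e, hf_add_left, hf_smul_left, hf_smul_left, hf_eq_zero_symm hF hxw, hf_eq_zero_symm hF hxv,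
        mul_zero, mul_zero, add_zero]
    rw [hf_add_left, hyx, add_zero] at h0
    exact hx h0

/-- An isotropic vector with prescribed products. -/
theorem exists_dual {v a b : V F} (hv : hf v v = 0) (hav : hf a v = 0) (hbv : hf b v = 0)
    (hn : v ∉ Submodule.span F ({a, b} : Set (V F))) :
    ∃ z, hf z z = 0 ∧ hf v z = 1 ∧ hf a z = 0 ∧ hf b z = 0 := by
  obtain ⟨φ, hφv, hφ⟩ := Submodule.exists_dual_map_eq_bot_of_notMem hn inferInstance
  have hz : ∀ x ∈ Submodule.span F ({a, b} : Set (V F)), φ x = 0 := fun x hx =>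
    (Submodule.mem_bot F).mp (hφ ▸ Submodule.mem_map_of_mem hx)
  let z0 : V F := fun i => (φ (Pi.single i 1) * (φ v)⁻¹) ^ 2
  have hval : ∀ x, hf x z0 = φ x * (φ v)⁻¹ := fun x => by
    conv_rhs => rw [pi_eq_sum_univ' x, map_sum, Finset.sum_mul]
    refine Finset.sum_congr rfl fun i _ => ?_
    rw [map_smul, smul_eq_mul, mul_assoc, show z0 i = (φ (Pi.single i 1) * (φ v)⁻¹) ^ 2 from rfl, ← pow_mul,
      pow_four hF]
  have h1 : hf v z0 = 1 := by rw [hval, mul_inv_cancel₀ hφv]
  have ha : hf a z0 = 0 := by rw [hval, hz a (Submodule.subset_span (by simp)), zero_mul]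
  have hb : hf b z0 = 0 := by rw [hval, hz b (Submodule.subset_span (by simp)), zero_mul]
  obtain ⟨ω, hω⟩ := exists_omega hF
  rcases sq_eq_self_cases (hf_symm hF z0 z0).symm with h0 | h0
  · exact ⟨z0, h0, h1, ha, hb⟩
  refine ⟨z0 + ω • v, ?_, ?_, ?_, ?_⟩
  · rw [hf_add_left, hf_add_right hF, hf_add_right hF, hf_smul_left, hf_smul_left, hf_smul_right, hf_smul_right,
      h0, h1, hv, hf_symm hF v z0, h1]
    linear_combination hω
  all_goals rw [hf_add_right hF, hf_smul_right]
  · rw [h1, hv, mul_zero, add_zero]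
  · rw [ha, hav, mul_zero, add_zero]
  · rw [hb, hbv, mul_zero, add_zero]

/-- The five points of an isotropic line. -/
theorem line_rel {v u : V F} {ω : F} (hω : ω ^ 2 + ω + 1 = 0) (hv : hf v v = 0) (hu : hf u u = 0)
    (hvu : hf v u = 0) :
    tr hF u * (tr hF v * (tr hF (v + u) * (tr hF (v + ω • u) * tr hF (v + (ω + 1) • u)))) = 1 := by
  have huv := hf_eq_zero_symm hF hvu
  have hiso : ∀ c : F, hf (v + c • u) (v + c • u) = 0 := fun c => by
    rw [hf_add_left, hf_add_right hF, hf_add_right hF, hf_smul_left, hf_smul_left, hf_smul_right, hf_smul_right,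
      hv, hu, hvu, huv]
    ring
  have h1 : hf (v + u) (v + u) = 0 := by simpa using hiso 1
  have h0 := two_zero hF
  refine mat_ext fun x => ?_
  simp only [mat_mul, mat_one, mat_tr hF hv, mat_tr hF hu, mat_tr hF h1, mat_tr hF (hiso _)]
  simp only [hf_add_left, hf_add_right hF, hf_smul_left, hf_smul_right, hv, hu, hvu, huv, mul_zero, add_zero]
  funext i
  simp only [Pi.add_apply, Pi.smul_apply, smul_eq_mul]
  linear_combination (2 * hf x v * v i + hf x v * u i * (ω + 1) + hf x u * u i * ω ^ 3) * h0 +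
    (2 * hf x u * v i + 3 * hf x u * u i) * hω
end CfsgLib.Sporadic.U62Lift
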