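import Cfsg.Agent.Lib.Sporadic.U62Lift.Invol

/-!
In a double cover of PSU₆(2) every involution lifts to an involution.
-/

set_option autoImplicit false

namespace CfsgLib.Sporadic.U62Lift

open Matrix

theorem five_parity {C : Type*} [Group C] {d a : C} (hd : ∀ c, Commute c d) (hd2 : d * d = 1) {p₁ p₂ p₃ p₄ p₅ : C}
    (hz : Commute a (p₁ * (p₂ * (p₃ * (p₄ * p₅)))))
    (h1 : a * p₁ = p₁ * a * d) (h2 : a * p₂ = p₂ * a * d) (h3 : a * p₃ = p₃ * a * d)
    (h4 : a * p₄ = p₄ * a * d) (h5 : a * p₅ = p₅ * a * d) : d = 1 := by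
  have c : ∀ {p q : C} {n : ℕ}, a * p = p * a * d → a * q = q * a * d ^ n →
      a * (p * q) = p * q * a * d ^ (n + 1) := by
    intro p q n hp hq
    rw [← mul_assoc, hp, mul_assoc (p * a), (hd q).symm.eq, mul_assoc p, ← mul_assoc a, hq, pow_succ]
    simp only [mul_assoc]
  have e := c h1 (c h2 (c h3 (c h4 (n := 1) (by rw [pow_one]; exact h5))))
  rw [hz.eq] at e
  have h : d ^ 5 = 1 := left_eq_mul.mp e
  rwa [pow_succ, show d ^ 4 = (d * d) * (d * d) by simp only [pow_succ, pow_zero, one_mul, mul_assoc], hd2, one_mul, one_mul] at h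

theorem five_square {C : Type*} [Group C] {p₁ p₂ p₃ p₄ p₅ : C} (h12 : Commute p₁ p₂) (h13 : Commute p₁ p₃)
    (h14 : Commute p₁ p₄) (h15 : Commute p₁ p₅) (h23 : Commute p₂ p₃) (h24 : Commute p₂ p₄) (h25 : Commute p₂ p₅)
    (h34 : Commute p₃ p₄) (h35 : Commute p₃ p₅) (h45 : Commute p₄ p₅) :
    (p₁ * (p₂ * (p₃ * (p₄ * p₅)))) ^ 2 = p₁ ^ 2 * (p₂ ^ 2 * (p₃ ^ 2 * (p₄ ^ 2 * p₅ ^ 2))) := by
  rw [(h12.mul_right (h13.mul_right (h14.mul_right h15))).mul_pow,
    (h23.mul_right (h24.mul_right h25)).mul_pow, (h34.mul_right h35).mul_pow, h45.mul_pow]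

variable {F : Type*} [Field F] [Fintype F] (hF : Fintype.card F = 4)
  {C : Type*} [Group C] (π : C →* Cfsg.PSU 6 F 2) (d : C)

theorem commute_lifts_conj (hd2 : d * d = 1) (hker : ∀ k, π k = 1 → k = 1 ∨ k = d) (hdc : ∀ c, Commute c d) (g : C) {a b a' b' : C}
    (ha : π g * π a * (π g)⁻¹ = π a') (hb : π g * π b * (π g)⁻¹ = π b') : Commute a b ↔ Commute a' b' := by
  have key : ∀ {x x' : C}, π g * π x * (π g)⁻¹ = π x' → g * x * g⁻¹ = x' ∨ g * x * g⁻¹ = x' * d := by
    intro x x' e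
    rcases hker (x'⁻¹ * (g * x * g⁻¹)) (by rw [map_mul, map_inv, map_mul, map_mul, map_inv, e, inv_mul_cancel]) with h | h
    · exact Or.inl (inv_mul_eq_one.mp h).symm
    · exact Or.inr (by rw [← h]; group)
  have hc : Commute a b ↔ Commute (g * a * g⁻¹) (g * b * g⁻¹) := (Commute.conj_iff g).symm
  have hd' : ∀ {x y : C}, Commute (x * d) y ↔ Commute x y := fun {x y} =>
    ⟨fun h => by simpa [mul_assoc, hd2] using h.mul_left (hdc y).symm,
      fun h => h.mul_left (hdc y).symm⟩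
  rw [hc]
  rcases key ha with e | e <;> rcases key hb with e' | e' <;> rw [e, e']
  · exact ⟨fun h => (hd'.mp h.symm).symm, fun h => (hd'.mpr h.symm).symm⟩
  · exact hd'
  · exact ⟨fun h => (hd'.mp (hd'.mp h).symm).symm, fun h => hd'.mpr (hd'.mpr h.symm).symm⟩

theorem square_lifts_conj (hker : ∀ k, π k = 1 → k = 1 ∨ k = d) (hd2 : d * d = 1) (hdc : ∀ c, Commute c d) (g : C)
    {a a' : C} (ha : π g * π a * (π g)⁻¹ = π a') (h : a * a = 1) : a' * a' = 1 := by
  have e : (g * a * g⁻¹) * (g * a * g⁻¹) = 1 := by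
    rw [show g * a * g⁻¹ * (g * a * g⁻¹) = g * (a * a) * g⁻¹ by group, h]
    group
  rcases hker (a'⁻¹ * (g * a * g⁻¹)) (by rw [map_mul, map_inv, map_mul, map_mul, map_inv, ha, inv_mul_cancel]) with h' | h'
  · rwa [← inv_mul_eq_one.mp h'] at e
  · rw [inv_mul_eq_iff_eq_mul] at h'
    rwa [h', mul_assoc, ← mul_assoc d, ← (hdc a').eq, mul_assoc, hd2, mul_one] at e

include hF

/-- The five points of an isotropic line through a point, all equivalent under the stabiliser of `w`. -/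
theorem exists_line {w v : V F} (hw : hf w w = 0) (hv : hf v v = 0) (hwv : hf w v = 0)
    (hvS : v ∉ Submodule.span F ({w} : Set (V F))) :
    ∃ (u : V F) (ω : F), ω ^ 2 + ω + 1 = 0 ∧ hf u u = 0 ∧ hf v u = 0 ∧ hf w u = 0 ∧
      ∀ P : V F → Prop,
        (∀ a b, hf a a = 0 → hf b b = 0 → hf a b = 1 → hf w a = 0 → hf w b = 0 → P a → P b) →
        (P u ↔ P v) ∧ (P (v + u) ↔ P v) ∧ (P (v + ω • u) ↔ P v) ∧ (P (v + (ω + 1) • u) ↔ P v) := by
  obtain ⟨u, hu, huw, huv, huS⟩ := exists_third hF hw hv hwv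
  have hvu := hf_eq_zero_symm hF huv
  have hwu := hf_eq_zero_symm hF huw
  obtain ⟨ω, hω⟩ := exists_omega hF
  have hvn : v ∉ Submodule.span F ({w, u} : Set (V F)) := fun hm => by
    obtain ⟨r, s, e⟩ := Submodule.mem_span_pair.mp hm
    by_cases hs : s = 0
    · exact hvS (Submodule.mem_span_singleton.mpr ⟨r, by rw [← e, hs, zero_smul, add_zero]⟩)
    · refine huS (Submodule.mem_span_pair.mpr ⟨-(s⁻¹ * r), s⁻¹, funext fun i => ?_⟩)
      have e' : r * w i + s * u i = v i := congrFun e i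
      show -(s⁻¹ * r) * w i + s⁻¹ * v i = u i
      rw [← e']
      field_simp
      ring
  have hvn' : v ∉ Submodule.span F ({w, v + u} : Set (V F)) := fun hm => by
    obtain ⟨r, s, e⟩ := Submodule.mem_span_pair.mp hm
    by_cases hs : s = 0
    · exact hvS (Submodule.mem_span_singleton.mpr ⟨r, by rw [← e, hs, zero_smul, add_zero]⟩)
    · refine huS (Submodule.mem_span_pair.mpr ⟨-(s⁻¹ * r), s⁻¹ * (1 - s), funext fun i => ?_⟩)
      have e' : r * w i + s * (v i + u i) = v i := congrFun e i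
      show -(s⁻¹ * r) * w i + s⁻¹ * (1 - s) * v i = u i
      field_simp
      linear_combination -e'
  obtain ⟨z, hzz, hvz, hwz, huz⟩ := exists_dual hF hv hwv huv hvn
  obtain ⟨z', hzz', hvz', hwz', huz'⟩ :=
    exists_dual hF hv hwv (show hf (v + u) v = 0 by rw [hf_add_left, hv, huv, add_zero]) hvn'
  have huz1 : hf u z' = 1 := by
    rw [hf_add_left, hvz'] at huz'
    linear_combination huz' - two_zero hF
  have hiso : ∀ c : F, hf (v + c • u) (v + c • u) = 0 := fun c => by
    rw [hf_add_left, hf_add_right hF, hf_add_right hF, hf_smul_left, hf_smul_left, hf_smul_right, hf_smul_right,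
      hv, hu, hvu, huv]
    ring
  have hwc : ∀ c : F, hf w (v + c • u) = 0 := fun c => by
    rw [hf_add_right hF, hf_smul_right, hwv, hwu, mul_zero, add_zero]
  have hzc : ∀ c : F, hf (v + c • u) z = 1 := fun c => by
    rw [hf_add_left, hf_smul_left, hvz, huz, mul_zero, add_zero]
  refine ⟨u, ω, hω, hu, hvu, hwu, fun P hP => ?_⟩
  have go : ∀ p z : V F, hf p p = 0 → hf w p = 0 → hf z z = 0 → hf w z = 0 → hf v z = 1 → hf p z = 1 →
      (P p ↔ P v) := fun p z hp hwp hzz hwz hvz hpz =>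
    ⟨fun h => hP z v hzz hv (by rw [hf_symm hF v z, hvz, one_pow]) hwz hwv (hP p z hp hzz hpz hwp hwz h),
      fun h => hP z p hzz hp (by rw [hf_symm hF p z, hpz, one_pow]) hwz hwp (hP v z hv hzz hvz hwv hwz h)⟩
  have hc : ∀ c : F, P (v + c • u) ↔ P v := fun c => go _ z (hiso c) (hwc c) hzz hwz hvz (hzc c)
  exact ⟨go u z' hu hwu hzz' hwz' hvz' huz1, by simpa only [one_smul] using hc 1, hc ω, hc (ω + 1)⟩

/-- In a central extension by two elements every involution lifts to an involution. -/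
theorem lift_involution (hπ : Function.Surjective π) (hdc : ∀ c, Commute c d) (hd2 : d * d = 1)
    (hd1 : d ≠ 1) (hker : ∀ k, π k = 1 → k = 1 ∨ k = d) {x : Cfsg.PSU 6 F 2} (hx : x * x = 1) :
    ∃ y, π y = x ∧ y * y = 1 := by
  have hf0 : ∀ y : V F, hf y 0 = 0 ∧ hf 0 y = 0 := fun y => by simp [hf, Cfsg.hermForm]
  have tq0 : tq hF (0 : V F) = 1 := by
    have h : tr hF (0 : V F) = 1 := mat_ext fun x => by
      rw [mat_tr hF (hf0 0).1, mat_one, smul_zero, add_zero]
    rw [tq, h]; rfl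
  have s : ∀ v, ∃ c, π c = tq hF v ∧ (v = 0 → c = 1) := fun v => by
    by_cases hv : v = 0
    · exact ⟨1, by rw [map_one, hv, tq0], fun _ => rfl⟩
    · exact ⟨_, (hπ (tq hF v)).choose_spec, fun h => absurd h hv⟩
  choose L hL hL0 using s
  have hkc : ∀ k, π k = 1 → ∀ c, Commute c k := fun k hk c => by
    rcases hker k hk with rfl | rfl
    exacts [Commute.one_right c, hdc c]
  have qc : ∀ {v w : V F}, hf v v = 0 → hf w w = 0 → hf v w = 0 →
      L v * L w = L w * L v ∨ L v * L w = L w * L v * d := by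
    intro v w hv hw hvw
    rcases hker ((L w * L v)⁻¹ * (L v * L w)) (by
      rw [map_mul, map_inv, map_mul, map_mul, hL, hL, tq, tq, ← QuotientGroup.mk_mul, ← QuotientGroup.mk_mul,
        (tr_comm hF hv hw hvw).eq, inv_mul_cancel]) with h | h
    · exact Or.inl (inv_mul_eq_one.mp h).symm
    · exact Or.inr (inv_mul_eq_iff_eq_mul.mp h)
  have swap : ∀ w a b : V F, hf w w = 0 → hf a a = 0 → hf b b = 0 → hf a b = 1 → hf w a = 0 → hf w b = 0 →
      (Commute (L w) (L a) → Commute (L w) (L b)) ∧ (L a * L a = 1 → L b * L b = 1) := by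
    intro w a b hw ha hb hab hwa hwb
    obtain ⟨e1, e2⟩ := swap_pair hF ha hb hab hw hwa hwb
    obtain ⟨g, hg⟩ := hπ (QuotientGroup.mk (tr hF (a + b)))
    have f : ∀ {p q : V F}, tr hF (a + b) * tr hF p * (tr hF (a + b))⁻¹ = tr hF q →
        π g * π (L p) * (π g)⁻¹ = π (L q) := fun {p q} e => by
      rw [hg, hL, hL, tq, tq, ← e]; rfl
    exact ⟨(commute_lifts_conj π d hd2 hker hdc g (f e2) (f e1)).mp,
      square_lifts_conj π d hker hd2 hdc g (f e1)⟩
  have hline : ∀ {v u : V F} {ω : F}, ω ^ 2 + ω + 1 = 0 → hf v v = 0 → hf u u = 0 → hf v u = 0 →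
      π (L u * (L v * (L (v + u) * (L (v + ω • u) * L (v + (ω + 1) • u))))) = 1 := by
    intro v u ω hω hv hu hvu
    simp only [map_mul, hL, tq, ← QuotientGroup.mk_mul, line_rel hF hω hv hu hvu]
    rfl
  -- orthogonal transvections lift to commuting elements
  have hcomm : ∀ w v : V F, hf w w = 0 → hf v v = 0 → hf w v = 0 → Commute (L w) (L v) := by
    intro w v hw hv hwv
    by_cases hm : v ∈ Submodule.span F ({w} : Set (V F))
    · obtain ⟨c, rfl⟩ := Submodule.mem_span_singleton.mp hm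
      by_cases hc : c = 0
      · rw [hL0 (c • w) (by rw [hc, zero_smul])]
        exact Commute.one_right _
      · have h := (Commute.refl (L w)).mul_right (hkc ((L w)⁻¹ * L (c • w)) (by
          rw [map_mul, map_inv, hL, hL, tq, tq, tr_smul hF hc hw, inv_mul_cancel]) (L w))
        rwa [mul_inv_cancel_left] at h
    obtain ⟨u, ω, hω, hu, hvu, hwu, hP⟩ := exists_line hF hw hv hwv hm
    obtain ⟨q1, q2, q3, q4⟩ :=
      hP (fun p => Commute (L w) (L p)) (fun a b ha hb hab hwa hwb => (swap w a b hw ha hb hab hwa hwb).1)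
    have hiso : ∀ c : F, hf (v + c • u) (v + c • u) = 0 := fun c => by
      rw [hf_add_left, hf_add_right hF, hf_add_right hF, hf_smul_left, hf_smul_left, hf_smul_right, hf_smul_right,
        hv, hu, hvu, hf_eq_zero_symm hF hvu]
      ring
    have hwc : ∀ c : F, hf w (v + c • u) = 0 := fun c => by
      rw [hf_add_right hF, hf_smul_right, hwv, hwu, mul_zero, add_zero]
    by_contra hc
    have bad : ∀ {p : V F}, hf p p = 0 → hf w p = 0 → (Commute (L w) (L p) ↔ Commute (L w) (L v)) →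
        L w * L p = L p * L w * d := fun {p} hp hwp hiff =>
      (qc hw hp hwp).resolve_left fun h => hc (hiff.mp h)
    exact hd1 (five_parity hdc hd2 (hkc _ (hline hω hv hu hvu) (L w)) (bad hu hwu q1) (bad hv hwv Iff.rfl)
      (bad (by simpa using hiso 1) (by simpa using hwc 1) q2) (bad (hiso _) (hwc _) q3) (bad (hiso _) (hwc _) q4))
  -- and to involutions
  have hsq : ∀ v : V F, hf v v = 0 → L v * L v = 1 := by
    intro v hv
    by_cases hv0 : v = 0
    · rw [hL0 v hv0, mul_one]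
    obtain ⟨u, ω, hω, hu, hvu, -, hP⟩ := exists_line hF (hf0 0).1 hv (hf0 v).2 (by simpa using hv0)
    obtain ⟨q1, q2, q3, q4⟩ :=
      hP (fun p => L p * L p = 1) (fun a b ha hb hab hwa hwb => (swap 0 a b (hf0 0).1 ha hb hab hwa hwb).2)
    by_contra hne
    have hcomb : ∀ a b a' b' : F, hf (a • v + b • u) (a' • v + b' • u) = 0 := fun a b a' b' => by
      rw [hf_add_left, hf_add_right hF, hf_add_right hF, hf_smul_left, hf_smul_left, hf_smul_left, hf_smul_left,
        hf_smul_right, hf_smul_right, hf_smul_right, hf_smul_right, hv, hu, hvu, hf_eq_zero_symm hF hvu]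
      ring
    have eu : u = (0 : F) • v + (1 : F) • u := by simp
    have ev : v = (1 : F) • v + (0 : F) • u := by simp
    have e1 : v + u = (1 : F) • v + (1 : F) • u := by simp
    have ec : ∀ c : F, v + c • u = (1 : F) • v + c • u := fun c => by simp
    let Q : V F → Prop := fun p => ∃ a b : F, p = a • v + b • u
    have cm : ∀ p q, Q p → Q q → Commute (L p) (L q) := by
      rintro p q ⟨a, b, rfl⟩ ⟨a', b', rfl⟩
      exact hcomm _ _ (hcomb a b a b) (hcomb a' b' a' b') (hcomb a b a' b')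
    have ksq : ∀ p, Q p → (L p * L p = 1 ↔ L v * L v = 1) → L p ^ 2 = d := by
      rintro p ⟨a, b, rfl⟩ hiff
      rcases hker (L (a • v + b • u) * L (a • v + b • u)) (by
        rw [map_mul, hL, tq, ← QuotientGroup.mk_mul, tr_sq hF (hcomb a b a b)]; rfl) with h | h
      · exact absurd (hiff.mp h) hne
      · rwa [pow_two]
    have Qu : Q u := ⟨0, 1, eu⟩
    have Qv : Q v := ⟨1, 0, ev⟩
    have Q1 : Q (v + u) := ⟨1, 1, e1⟩
    have Qc : ∀ c : F, Q (v + c • u) := fun c => ⟨1, c, ec c⟩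
    have e := five_square (cm _ _ Qu Qv) (cm _ _ Qu Q1) (cm _ _ Qu (Qc ω)) (cm _ _ Qu (Qc (ω + 1)))
      (cm _ _ Qv Q1) (cm _ _ Qv (Qc ω)) (cm _ _ Qv (Qc (ω + 1))) (cm _ _ Q1 (Qc ω)) (cm _ _ Q1 (Qc (ω + 1)))
      (cm _ _ (Qc ω) (Qc (ω + 1)))
    rw [ksq _ Qu q1, ksq _ Qv Iff.rfl, ksq _ Q1 q2, ksq _ (Qc ω) q3, ksq _ (Qc (ω + 1)) q4,
      hd2, mul_one, hd2, mul_one] at e
    refine hd1 (e.symm.trans ?_)
    rcases hker _ (hline hω hv hu hvu) with h | h <;> rw [h]
    · exact one_pow 2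
    · rw [pow_two, hd2]
  obtain ⟨l, hiso, horth, rfl⟩ := involution_tq hF hx
  refine ⟨(l.map L).prod, ?_, ?_⟩
  · rw [map_list_prod, List.map_map]
    exact congrArg List.prod (List.map_congr_left fun v _ => hL v)
  · clear hx
    induction l with
    | nil => simp
    | cons a l ih =>
      have hc : Commute (L a) (l.map L).prod := Commute.list_prod_right _ _ fun y hy => by
        obtain ⟨b, hb, rfl⟩ := List.mem_map.mp hy
        exact hcomm a b (hiso a (by simp)) (hiso b (by simp [hb])) (horth a (by simp) b (by simp [hb]))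
      rw [List.map_cons, List.prod_cons, hc.symm.mul_mul_mul_comm, hsq a (hiso a (by simp)), one_mul]
      exact ih (fun v hv => hiso v (by simp [hv])) (fun v hv w hw => horth v (by simp [hv]) w (by simp [hw]))

end CfsgLib.Sporadic.U62Lift
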